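import Mathlib

/-!
The number of fixed points is not constant on the product of two alternating-group classes of
non-trivial permutations.
-/

set_option autoImplicit false

namespace CfsgLib.FixProduct

open Equiv

variable {α : Type*} [Fintype α] [DecidableEq α]

/-- Indicator of `ρ u = v`. -/
def ind (ρ : Perm α) (u v : α) : ℤ := if ρ u = v then 1 else 0

/-- The signed indicator of a pair. -/
def sgnPair (i j u : α) : ℤ := (if u = i then 1 else 0) - (if u = j then 1 else 0)

/-- The number of agreements of `π` and `μ`. -/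
def agree (π μ : Perm α) : ℤ := ∑ u, ∑ v, ind π u v * ind μ u v

theorem agree_eq_card (π μ : Perm α) :
    agree π μ = ((Finset.univ.filter fun u => π u = μ u).card : ℤ) := by
  rw [agree, Finset.card_filter]
  push_cast
  refine Finset.sum_congr rfl fun u _ => ?_
  simp [ind, eq_comm]

/-- The alternating value on a pair of pairs. -/
def delta (M : α → α → ℤ) (i j k l : α) : ℤ := M i k - M j k - M i l + M j l

omit [Fintype α] in
theorem double_diff (M : α → α → ℤ) {i j k l : α} (hij : i ≠ j) (hkl : k ≠ l) (hik : i ≠ k)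
    (hil : i ≠ l) (hjk : j ≠ k) (hjl : j ≠ l) (u v : α) :
    M u v - M (swap i j u) (swap i j v) - M (swap k l u) (swap k l v) +
        M (swap i j (swap k l u)) (swap i j (swap k l v)) =
      delta M i j k l * (sgnPair i j u * sgnPair k l v) +
        delta (fun a b => M b a) i j k l * (sgnPair k l u * sgnPair i j v) := by
  have key : ∀ w : α, (w = i ∧ swap i j w = j ∧ swap k l w = i ∧ sgnPair i j w = 1 ∧ sgnPair k l w = 0) ∨
      (w = j ∧ swap i j w = i ∧ swap k l w = j ∧ sgnPair i j w = -1 ∧ sgnPair k l w = 0) ∨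
      (w = k ∧ swap i j w = k ∧ swap k l w = l ∧ sgnPair i j w = 0 ∧ sgnPair k l w = 1) ∨
      (w = l ∧ swap i j w = l ∧ swap k l w = k ∧ sgnPair i j w = 0 ∧ sgnPair k l w = -1) ∨
      (swap i j w = w ∧ swap k l w = w ∧ sgnPair i j w = 0 ∧ sgnPair k l w = 0) := by
    intro w
    by_cases h1 : w = i
    · subst h1; simp [sgnPair, hij, hik, hil, swap_apply_of_ne_of_ne]
    by_cases h2 : w = j
    · subst h2; simp [sgnPair, hij.symm, hjk, hjl, swap_apply_of_ne_of_ne]
    by_cases h3 : w = k
    · subst h3; simp [sgnPair, hkl, hik.symm, hjk.symm, swap_apply_of_ne_of_ne]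
    by_cases h4 : w = l
    · subst h4; simp [sgnPair, hkl.symm, hil.symm, hjl.symm, swap_apply_of_ne_of_ne]
    simp [sgnPair, h1, h2, h3, h4, swap_apply_of_ne_of_ne]
  rcases key u with ⟨rfl, a1, a2, a3, a4⟩ | ⟨rfl, a1, a2, a3, a4⟩ | ⟨rfl, a1, a2, a3, a4⟩ |
      ⟨rfl, a1, a2, a3, a4⟩ | ⟨a1, a2, a3, a4⟩ <;>
    rcases key v with ⟨rfl, b1, b2, b3, b4⟩ | ⟨rfl, b1, b2, b3, b4⟩ | ⟨rfl, b1, b2, b3, b4⟩ |
      ⟨rfl, b1, b2, b3, b4⟩ | ⟨b1, b2, b3, b4⟩ <;>
    simp only [a1, a2, a3, a4, b1, b2, b3, b4, delta, swap_apply_left, swap_apply_right,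
      swap_apply_of_ne_of_ne hik.symm hjk.symm, swap_apply_of_ne_of_ne hil.symm hjl.symm] <;> ring

theorem agree_double_diff (π μ : Perm α) {i j k l : α} (hij : i ≠ j) (hkl : k ≠ l) (hik : i ≠ k)
    (hil : i ≠ l) (hjk : j ≠ k) (hjl : j ≠ l) :
    agree π μ - agree π (swap i j * μ * (swap i j)⁻¹) - agree π (swap k l * μ * (swap k l)⁻¹) +
        agree π (swap k l * swap i j * μ * (swap k l * swap i j)⁻¹) =
      delta (ind π) i j k l * delta (ind μ) i j k l +
        delta (fun a b => ind π b a) i j k l * delta (fun a b => ind μ b a) i j k l := by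
  have hc : ∀ (g : Perm α) (u v : α), ind (g * μ * g⁻¹) u v = ind μ (g⁻¹ u) (g⁻¹ v) := fun g u v => by
    unfold ind
    exact if_congr (by rw [Perm.mul_apply, Perm.mul_apply, Perm.eq_inv_iff_eq]) rfl rfl
  simp only [agree, hc]
  simp only [← Finset.sum_sub_distrib, ← Finset.sum_add_distrib, mul_inv_rev, swap_inv,
    Perm.mul_apply, ← mul_sub, ← mul_add, double_diff (ind μ) hij hkl hik hil hjk hjl]
  simp [sgnPair, delta, mul_add, mul_sub, sub_mul, Finset.sum_add_distrib, Finset.sum_sub_distrib,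
    mul_ite, ite_mul]
  ring

/-- Two pairs on which `ρ` has positive alternating value. -/
theorem exists_good {ρ : Perm α} (hρ : ρ ≠ 1) (hn : 5 ≤ Fintype.card α) :
    ∃ i j k l : α, [i, j, k, l].Nodup ∧ 1 ≤ delta (ind ρ) i j k l ∧
      0 ≤ delta (fun a b => ind ρ b a) i j k l := by
  obtain ⟨i, hi⟩ : ∃ i, ρ i ≠ i := by
    by_contra h
    push Not at h
    exact hρ (Perm.ext h)
  obtain ⟨k, hk⟩ : ∃ k, ρ i = k := ⟨_, rfl⟩
  have hpick : ∀ S : Finset α, S.card ≤ 4 → ∃ x, x ∉ S := fun S hS => by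
    by_contra h
    push Not at h
    have := Finset.eq_univ_iff_forall.2 h
    rw [this, Finset.card_univ] at hS
    omega
  obtain ⟨l, hl⟩ := hpick {i, k, ρ⁻¹ i} (Finset.card_le_three.trans (by norm_num))
  obtain ⟨j, hj⟩ := hpick {i, k, l, ρ k} Finset.card_le_four
  simp only [Finset.mem_insert, Finset.mem_singleton, not_or] at hl hj
  refine ⟨i, j, k, l, ?_, ?_, ?_⟩
  · simp only [List.nodup_cons, List.mem_cons, List.not_mem_nil, or_false, not_or, List.nodup_nil,
      and_true, not_false_iff]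
    exact ⟨⟨Ne.symm hj.1, fun e => hi (hk.trans e.symm), Ne.symm hl.1⟩, ⟨hj.2.1, hj.2.2.1⟩, Ne.symm hl.2.1⟩
  · have h1 : ρ j ≠ k := fun e => hj.1 (ρ.injective (e.trans hk.symm))
    simp only [delta, ind, hk, if_true, h1, if_false, Ne.symm hl.2.1, sub_zero]
    split_ifs <;> norm_num
  · have h1 : ρ l ≠ i := fun e => hl.2.2 (by rw [← e, Perm.inv_def, Equiv.symm_apply_apply])
    simp only [delta, ind, h1, if_false, Ne.symm hj.2.2.2, sub_zero]
    split_ifs <;> norm_num

/-- Agreement count of `π` with the conjugate of `σ` by `g`. -/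
def aconj (π σ g : Perm α) : ℤ := agree π (g * σ * g⁻¹)

theorem not_const_perm {π σ : Perm α} (hπ : π ≠ 1) (hσ : σ ≠ 1) (hn : 5 ≤ Fintype.card α) (c : ℤ)
    (h : ∀ g, aconj π σ g = c) : False := by
  obtain ⟨i, j, k, l, hnd, hP, hP'⟩ := exists_good hπ hn
  obtain ⟨i', j', k', l', hnd', hM, hM'⟩ := exists_good hσ hn
  let f : Fin 4 → α := ![i', j', k', l']
  let f' : Fin 4 → α := ![i, j, k, l]
  have hf : Function.Injective f := by
    simp [List.nodup_cons] at hnd'
    intro a b e
    fin_cases a <;> fin_cases b <;> simp_all [f]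
  have hf' : Function.Injective f' := by
    simp [List.nodup_cons] at hnd
    intro a b e
    fin_cases a <;> fin_cases b <;> simp_all [f']
  obtain ⟨g, hg⟩ : ∃ g : Perm α, ∀ t, g (f t) = f' t := by
    let e := ((Equiv.ofInjective f hf).symm.trans (Equiv.ofInjective f' hf'))
    refine ⟨e.extendSubtype, fun t => ?_⟩
    rw [Equiv.extendSubtype_apply_of_mem _ _ ⟨t, rfl⟩]
    simp [e]
  simp [List.nodup_cons] at hnd
  have hind : ∀ a b, ind (g * σ * g⁻¹) (g a) (g b) = ind σ a b := fun a b => by simp [ind]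
  have key := agree_double_diff π (g * σ * g⁻¹) hnd.1.1 hnd.2.2 hnd.1.2.1 hnd.1.2.2 hnd.2.1.1 hnd.2.1.2
  have e1 : ∀ t : Perm α, agree π (t * (g * σ * g⁻¹) * t⁻¹) = c := fun t => by
    rw [← h (t * g), aconj, mul_inv_rev]
    congr 1
  rw [e1, e1, e1, show agree π (g * σ * g⁻¹) = c from h g] at key
  have g0 : g i' = i := hg 0
  have g1 : g j' = j := hg 1
  have g2 : g k' = k := hg 2
  have g3 : g l' = l := hg 3
  have d1 : delta (ind (g * σ * g⁻¹)) i j k l = delta (ind σ) i' j' k' l' := by
    simp only [delta, ← g0, ← g1, ← g2, ← g3, hind]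
  have d2 : delta (fun a b => ind (g * σ * g⁻¹) b a) i j k l = delta (fun a b => ind σ b a) i' j' k' l' := by
    simp only [delta, ← g0, ← g1, ← g2, ← g3, hind]
  rw [d1, d2] at key
  nlinarith [mul_le_mul hP hM zero_le_one (le_trans zero_le_one hP), mul_nonneg hP' hM']

/-- Two-point transitivity of the alternating group. -/
theorem exists_even_pair {x y u v : α} (hxy : x ≠ y) (huv : u ≠ v) (hn : 4 ≤ Fintype.card α) :
    ∃ g ∈ alternatingGroup α, g x = u ∧ g y = v := by
  let g1 : Perm α := swap x u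
  let g2 : Perm α := swap (g1 y) v * g1
  have h1 : g1 x = u := swap_apply_left _ _
  have hgy : g1 y ≠ u := fun e => hxy (g1.injective (h1.trans e.symm))
  have hu : g2 x = u := by
    show swap (g1 y) v (g1 x) = u
    rw [h1, swap_apply_of_ne_of_ne hgy.symm huv]
  have hv : g2 y = v := swap_apply_left _ _
  by_cases hg : Perm.sign g2 = 1
  · exact ⟨g2, Perm.mem_alternatingGroup.2 hg, hu, hv⟩
  obtain ⟨p, hp, q, hq, hpq⟩ := Finset.one_lt_card.1 (show 1 < ((Finset.univ : Finset α) \ {u, v}).card by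
    rw [Finset.card_sdiff, Finset.inter_univ, Finset.card_univ, Finset.card_pair huv]; omega)
  simp only [Finset.mem_sdiff, Finset.mem_univ, true_and, Finset.mem_insert, Finset.mem_singleton,
    not_or] at hp hq
  refine ⟨swap p q * g2, Perm.mem_alternatingGroup.2 ?_, ?_, ?_⟩
  · rw [map_mul, Perm.sign_swap hpq, (Int.units_eq_one_or (Perm.sign g2)).resolve_left hg]
    rfl
  · rw [Perm.mul_apply, hu, swap_apply_of_ne_of_ne (Ne.symm hp.1) (Ne.symm hq.1)]
  · rw [Perm.mul_apply, hv, swap_apply_of_ne_of_ne (Ne.symm hp.2) (Ne.symm hq.2)]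

/-- Three-point transitivity of the alternating group on at least five points. -/
theorem exists_even_triple {x y z u v w : α} (hxy : x ≠ y) (hxz : x ≠ z) (hyz : y ≠ z) (huv : u ≠ v)
    (huw : u ≠ w) (hvw : v ≠ w) (hn : 5 ≤ Fintype.card α) :
    ∃ g ∈ alternatingGroup α, g x = u ∧ g y = v ∧ g z = w := by
  obtain ⟨g, hg, hgx, hgy⟩ := exists_even_pair hxy huv (by omega)
  by_cases hz : g z = w
  · exact ⟨g, hg, hgx, hgy, hz⟩
  have hzu : g z ≠ u := fun e => hxz (g.injective (hgx.trans e.symm))
  have hzv : g z ≠ v := fun e => hyz (g.injective (hgy.trans e.symm))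
  obtain ⟨p, hp⟩ : ∃ p, p ∉ ({u, v, g z, w} : Finset α) := by
    by_contra h
    push Not at h
    have := Finset.card_le_four (a := u) (b := v) (c := g z) (d := w)
    rw [Finset.eq_univ_iff_forall.2 h, Finset.card_univ] at this
    omega
  simp only [Finset.mem_insert, Finset.mem_singleton, not_or] at hp
  refine ⟨swap (g z) p * swap (g z) w * g, Perm.mem_alternatingGroup.2 ?_, ?_, ?_, ?_⟩
  · rw [map_mul, map_mul, Perm.sign_swap (Ne.symm hp.2.2.1), Perm.sign_swap hz,
      Perm.mem_alternatingGroup.1 hg]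
    rfl
  · rw [Perm.mul_apply, Perm.mul_apply, hgx, swap_apply_of_ne_of_ne hzu.symm huw,
      swap_apply_of_ne_of_ne hzu.symm (Ne.symm hp.1)]
  · rw [Perm.mul_apply, Perm.mul_apply, hgy, swap_apply_of_ne_of_ne hzv.symm hvw,
      swap_apply_of_ne_of_ne hzv.symm (Ne.symm hp.2.1)]
  · rw [Perm.mul_apply, Perm.mul_apply, swap_apply_left, swap_apply_of_ne_of_ne (Ne.symm hz) (Ne.symm hp.2.2.2)]

theorem not_const_alternating {π σ : Perm α} (hn : 5 ≤ Fintype.card α) {x y z u v w : α}
    (hxy : π x = y) (hyz : π y = z) (dxy : x ≠ y) (dxz : x ≠ z) (dyz : y ≠ z)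
    (huv : σ u = v) (hvw : σ v = w) (duv : u ≠ v) (duw : u ≠ w) (dvw : v ≠ w)
    (hπf : (Finset.univ.filter fun t => π t = t).card ≤ 1) (c : ℤ)
    (h : ∀ g ∈ alternatingGroup α, aconj π σ g = c) : False := by
  classical
  set A := (Finset.univ : Finset (Perm α)).filter (· ∈ alternatingGroup α) with hA
  have hc2 : 2 ≤ c := by
    obtain ⟨g, hg, hu, hv, hw⟩ := exists_even_triple duv duw dvw dxy dxz dyz hn
    rw [← h g hg, aconj, agree_eq_card]
    have hsub : ({x, y} : Finset α) ⊆ Finset.univ.filter fun t => π t = (g * σ * g⁻¹) t := by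
      intro t ht
      simp only [Finset.mem_insert, Finset.mem_singleton] at ht
      rw [Finset.mem_filter]
      refine ⟨Finset.mem_univ _, ?_⟩
      rcases ht with rfl | rfl
      · rw [Perm.mul_apply, Perm.mul_apply, ← hu, Perm.inv_def, Equiv.symm_apply_apply, huv, hv, hu, hxy]
      · rw [Perm.mul_apply, Perm.mul_apply, ← hv, Perm.inv_def, Equiv.symm_apply_apply, hvw, hw, hv, hyz]
    have := Finset.card_le_card hsub
    rw [Finset.card_pair dxy] at this
    exact_mod_cast this
  -- the number of even permutations sending a pair to a pair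
  let N : α × α → α × α → ℕ := fun s t => (A.filter fun g => g s.1 = t.1 ∧ g s.2 = t.2).card
  have hconst : ∀ s : α × α, s.1 ≠ s.2 → ∀ t : α × α, t.1 ≠ t.2 →
      A.card = Fintype.card α * (Fintype.card α - 1) * N s t := by
    intro s hs t ht
    have hsame : ∀ t' ∈ (Finset.univ : Finset α).offDiag, N s t' = N s t := by
      intro t' ht'
      simp only [Finset.mem_offDiag, Finset.mem_univ, true_and] at ht'
      obtain ⟨k, hk, hk1, hk2⟩ := exists_even_pair ht' ht (by omega)
      refine Finset.card_bij (fun g _ => k * g) ?_ ?_ ?_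
      · intro g hg
        simp only [A, Finset.mem_filter, Finset.mem_univ, true_and] at hg ⊢
        exact ⟨mul_mem hk hg.1, by rw [Perm.mul_apply, hg.2.1, hk1], by rw [Perm.mul_apply, hg.2.2, hk2]⟩
      · intro a _ b _ e
        exact mul_left_cancel e
      · intro g hg
        simp only [A, Finset.mem_filter, Finset.mem_univ, true_and] at hg
        refine ⟨k⁻¹ * g, ?_, mul_inv_cancel_left _ _⟩
        simp only [A, Finset.mem_filter, Finset.mem_univ, true_and]
        exact ⟨mul_mem (inv_mem hk) hg.1, by rw [Perm.mul_apply, hg.2.1, ← hk1, Perm.inv_def, Equiv.symm_apply_apply],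
          by rw [Perm.mul_apply, hg.2.2, ← hk2, Perm.inv_def, Equiv.symm_apply_apply]⟩
    rw [Finset.card_eq_sum_card_fiberwise (f := fun g : Perm α => (g s.1, g s.2))
      (t := (Finset.univ : Finset α).offDiag) (fun g _ => by simpa using hs)]
    rw [Finset.sum_congr rfl (g := fun _ => N s t) fun t' ht' => ?_, Finset.sum_const,
      Finset.offDiag_card, Finset.card_univ, smul_eq_mul, Nat.mul_sub_one]
    rw [← hsame t' ht']
    simp only [N, Prod.ext_iff]
  -- averaging
  set n := Fintype.card α with hnn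
  have hsum : ∑ g ∈ A, aconj π σ g = (A.card : ℤ) * c := by
    rw [Finset.sum_congr rfl fun g hg => h g (Finset.mem_filter.1 hg).2, Finset.sum_const, nsmul_eq_mul]
  have hrew : ∀ g : Perm α, aconj π σ g = ∑ s : α, if π (g s) = g (σ s) then 1 else 0 := by
    intro g
    rw [aconj, agree_eq_card, Finset.card_filter]
    push_cast
    rw [← Equiv.sum_comp g]
    simp
  have hbound : ∀ s : α, (n * (n - 1) * (A.filter fun g => π (g s) = g (σ s)).card : ℕ) ≤
      A.card * (if σ s = s then n - 1 else n) := by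
    intro s
    split_ifs with hs
    · -- a fixed point has to go to a fixed point
      obtain ⟨s', hs'⟩ := Fintype.exists_ne_of_one_lt_card (by omega : 1 < Fintype.card α) s
      by_cases hne : (Finset.univ.filter fun t => π t = t).card = 0
      · rw [show (A.filter fun g => π (g s) = g (σ s)) = ∅ from ?_, Finset.card_empty, mul_zero]
        · exact Nat.zero_le _
        refine Finset.filter_eq_empty_iff.2 fun g _ e => ?_
        rw [hs] at e
        exact Finset.notMem_empty (g s) (Finset.card_eq_zero.1 hne ▸ Finset.mem_filter.2 ⟨Finset.mem_univ _, e⟩)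
      obtain ⟨o, ho⟩ := Finset.card_eq_one.1 (le_antisymm hπf (Nat.pos_of_ne_zero hne))
      have hfo : ∀ t, π t = t → t = o := fun t e =>
        Finset.mem_singleton.1 (ho ▸ Finset.mem_filter.2 ⟨Finset.mem_univ _, e⟩)
      obtain ⟨o', ho'⟩ := Fintype.exists_ne_of_one_lt_card (by omega : 1 < Fintype.card α) o
      have hle : (A.filter fun g => π (g s) = g (σ s)).card ≤ (n - 1) * N (s, s') (o, o') := by
        refine (Finset.card_le_mul_card_image_of_maps_to (f := fun g : Perm α => g s')
          (t := (Finset.univ : Finset α).erase o) ?_ (N (s, s') (o, o')) ?_).trans (le_of_eq ?_)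
        · intro g hg
          rw [Finset.mem_filter, hs] at hg
          rw [Finset.mem_erase]
          exact ⟨fun e => hs' (g.injective (e.trans (hfo _ hg.2).symm)), Finset.mem_univ _⟩
        · intro b hb
          rw [Finset.mem_erase] at hb
          have h1 := hconst (s, s') hs'.symm (o, b) hb.1.symm
          have h2 := hconst (s, s') hs'.symm (o, o') ho'.symm
          rw [h2] at h1
          rw [Nat.eq_of_mul_eq_mul_left (Nat.mul_pos (by omega) (by omega)) h1]
          refine Finset.card_le_card fun g hg => ?_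
          simp only [Finset.mem_filter] at hg ⊢
          exact ⟨hg.1.1, hfo _ (by rw [hs] at hg; exact hg.1.2), hg.2⟩
        · rw [Finset.card_erase_of_mem (Finset.mem_univ _), Finset.card_univ, mul_comm]
      rw [hconst (s, s') hs'.symm (o, o') ho'.symm]
      calc _ ≤ n * (n - 1) * ((n - 1) * N (s, s') (o, o')) := Nat.mul_le_mul_left _ hle
        _ = _ := by ring
    · rw [hconst (s, σ s) (Ne.symm hs) (x, y) dxy]
      have hle : (A.filter fun g => π (g s) = g (σ s)).card ≤ n * N (s, σ s) (x, y) := by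
        refine (Finset.card_le_mul_card_image_of_maps_to (f := fun g : Perm α => g s)
          (t := (Finset.univ : Finset α)) (fun g _ => Finset.mem_univ _) (N (s, σ s) (x, y)) ?_).trans
          (le_of_eq (by rw [Finset.card_univ, mul_comm]))
        intro b _
        by_cases hb : π b = b
        · rw [show ((A.filter fun g => π (g s) = g (σ s)).filter fun g => g s = b) = ∅ from ?_,
            Finset.card_empty]
          · exact Nat.zero_le _
          refine Finset.filter_eq_empty_iff.2 fun g hg e => hs (g.injective ?_)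
          rw [← (Finset.mem_filter.1 hg).2, e, hb]
        have h1 := hconst (s, σ s) (Ne.symm hs) (b, π b) (Ne.symm hb)
        have h2 := hconst (s, σ s) (Ne.symm hs) (x, y) dxy
        rw [h2] at h1
        rw [Nat.eq_of_mul_eq_mul_left (Nat.mul_pos (by omega) (by omega)) h1]
        refine Finset.card_le_card fun g hg => ?_
        simp only [Finset.mem_filter] at hg ⊢
        exact ⟨hg.1.1, hg.2, by rw [← hg.1.2, hg.2]⟩
      calc _ ≤ n * (n - 1) * (n * N (s, σ s) (x, y)) := Nat.mul_le_mul_left _ hle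
        _ = _ := by ring
  have htot : (n * (n - 1) : ℕ) * (∑ s : α, (A.filter fun g => π (g s) = g (σ s)).card) ≤
      A.card * (n * n) := by
    rw [Finset.mul_sum]
    refine (Finset.sum_le_sum fun s _ => hbound s).trans ?_
    rw [← Finset.mul_sum]
    refine Nat.mul_le_mul_left _ ((Finset.sum_le_sum fun s _ => show _ ≤ n by split_ifs <;> omega).trans ?_)
    rw [Finset.sum_const, Finset.card_univ, smul_eq_mul]
  have hApos : 0 < A.card := Finset.card_pos.2 ⟨1, by simp [A]⟩
  have hsum' : ((∑ s : α, (A.filter fun g => π (g s) = g (σ s)).card : ℕ) : ℤ) = A.card * c := by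
    rw [← hsum]
    simp only [hrew, Finset.card_filter]
    push_cast
    exact Finset.sum_comm
  have h3 : ((n * (n - 1) : ℕ) : ℤ) * (A.card * c) ≤ A.card * (n * n) := by
    rw [← hsum']
    exact_mod_cast htot
  rw [Nat.cast_mul, Nat.cast_sub (by omega : 1 ≤ n), Nat.cast_one] at h3
  have hA' : (0 : ℤ) < A.card := by exact_mod_cast hApos
  have hn' : (5 : ℤ) ≤ n := by exact_mod_cast hn
  have h4 : (n : ℤ) * (n - 1) * c ≤ n * n := le_of_mul_le_mul_left (by linarith) hA'
  nlinarith [mul_le_mul_of_nonneg_left hc2 (mul_nonneg (by linarith : (0 : ℤ) ≤ n) (by linarith : (0 : ℤ) ≤ (n : ℤ) - 1))]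

/-- The main statement. -/
theorem exists_ne (a b : Perm α) (hn : 5 ≤ Fintype.card α) (ha : a ≠ 1) (hb : b ≠ 1) :
    ∃ g ∈ alternatingGroup α, aconj a⁻¹ b g ≠ aconj a⁻¹ b 1 := by
  by_contra hcon
  push Not at hcon
  have hπ : a⁻¹ ≠ 1 := inv_ne_one.2 ha
  by_cases hodd : ∃ z : Perm α, Perm.sign z = -1 ∧ (z * a⁻¹ = a⁻¹ * z ∨ z * b = b * z)
  · obtain ⟨z, hz, hzc⟩ := hodd
    refine not_const_perm hπ hb hn (aconj a⁻¹ b 1) fun g => ?_
    by_cases hg : g ∈ alternatingGroup α
    · exact hcon g hg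
    have hgodd : Perm.sign g = -1 :=
      (Int.units_eq_one_or _).resolve_left fun e => hg (Perm.mem_alternatingGroup.2 e)
    rcases hzc with hza | hzb
    · rw [← hcon (z * g) (Perm.mem_alternatingGroup.2 (by rw [map_mul, hz, hgodd]; rfl))]
      rw [aconj, aconj, agree_eq_card, agree_eq_card]
      refine congrArg Nat.cast (Finset.card_bij (fun t _ => z t) ?_ (fun _ _ _ _ e => z.injective e) ?_)
      · intro t ht
        simp only [Finset.mem_filter, Finset.mem_univ, true_and] at ht ⊢
        rw [show z * g * b * (z * g)⁻¹ = z * (g * b * g⁻¹) * z⁻¹ by group, Perm.mul_apply, Perm.mul_apply,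
          show z⁻¹ (z t) = t from Equiv.symm_apply_apply z t, ← ht, ← Perm.mul_apply, ← hza, Perm.mul_apply]
      · intro t ht
        simp only [Finset.mem_filter, Finset.mem_univ, true_and] at ht ⊢
        refine ⟨z⁻¹ t, ?_, Equiv.apply_symm_apply _ _⟩
        apply z.injective
        rw [← Perm.mul_apply, hza, Perm.mul_apply, show z (z⁻¹ t) = t from Equiv.apply_symm_apply z t, ht,
          show z * g * b * (z * g)⁻¹ = z * (g * b * g⁻¹) * z⁻¹ by group, Perm.mul_apply, Perm.mul_apply]
    · rw [← hcon (g * z) (Perm.mem_alternatingGroup.2 (by rw [map_mul, hz, hgodd]; rfl))]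
      rw [aconj, aconj, show g * z * b * (g * z)⁻¹ = g * b * g⁻¹ by
        rw [mul_assoc g z b, hzb]; group]
  push Not at hodd
  have key : ∀ ρ : Perm α, ρ ≠ 1 → (∀ z : Perm α, Perm.sign z = -1 → z * ρ ≠ ρ * z) →
      (Finset.univ.filter fun t => ρ t = t).card ≤ 1 ∧
        ∃ x y z : α, ρ x = y ∧ ρ y = z ∧ x ≠ y ∧ x ≠ z ∧ y ≠ z := by
    intro ρ hρ hno
    refine ⟨Finset.card_le_one.2 fun s hs t ht => ?_, ?_⟩
    · by_contra hne
      rw [Finset.mem_filter] at hs ht
      refine hno (swap s t) (Perm.sign_swap hne) ?_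
      rw [mul_swap_eq_swap_mul, hs.2, ht.2]
    by_contra hall
    push Not at hall
    have hinv : ∀ x, ρ (ρ x) = x := fun x => by
      by_cases hx : ρ x = x
      · rw [hx, hx]
      · by_contra hne
        exact hx (ρ.injective (hall x (ρ x) (ρ (ρ x)) rfl rfl (Ne.symm hx) (Ne.symm hne)).symm)
    obtain ⟨x, hx⟩ : ∃ x, ρ x ≠ x := by
      by_contra h
      push Not at h
      exact hρ (Perm.ext h)
    refine hno (swap x (ρ x)) (Perm.sign_swap (Ne.symm hx)) ?_
    rw [mul_swap_eq_swap_mul, hinv, swap_comm]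
  obtain ⟨hπf, x, y, z, h1, h2, d1, d2, d3⟩ := key a⁻¹ hπ fun w hw => (hodd w hw).1
  obtain ⟨-, u, v, w, e1, e2, f1, f2, f3⟩ := key b hb fun w' hw => (hodd w' hw).2
  exact not_const_alternating hn h1 h2 d1 d2 d3 e1 e2 f1 f2 f3 hπf _ fun g hg => hcon g hg

end CfsgLib.FixProduct
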